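import Cfsg.Agent.H734.KB.SLBlock
import Cfsg.Agent.H109.EndPsl
import Cfsg.Agent.H508.KB.Defs
import Cfsg.Prelude.Def_LieTypeChar

/-!
# S4822, task KB1: `PSL_n(q)` in cross characteristic (helper734)

`kb_psl : p ≤ k(B₀(PSL_n(q)))` if `p ≥ 11` does not divide `q` and the Sylow `p`-subgroups are not cyclic.
-/

set_option autoImplicit false
set_option linter.unusedSectionVars false

open Cfsg Module Subgroup

namespace Cfsg.Agent.H734.KB

open Cfsg.Agent.H200.LinFix

universe u

/-- isomorphic groups modulo their centres -/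
noncomputable def quotCenter {X Y : Type*} [Group X] [Group Y] (e : X ≃* Y) : X ⧸ center X ≃* Y ⧸ center Y :=
  QuotientGroup.congr _ _ e (by
    ext y
    constructor
    · rintro ⟨x, hx, rfl⟩
      rw [SetLike.mem_coe, mem_center_iff] at hx
      rw [mem_center_iff]
      intro g
      have h1 := congrArg e (hx (e.symm g))
      simpa using h1
    · intro hy
      rw [mem_center_iff] at hy
      refine ⟨e.symm y, ?_, by simp⟩
      rw [SetLike.mem_coe, mem_center_iff]
      intro g
      apply e.injective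
      have h1 := hy (e g)
      simpa using h1)

section block

variable {F : Type} [Field F] [Fintype F] {p : ℕ} [Fact p.Prime] {M : Ideal AlgInt}

/-- `PSL_n(q)`, `n ≥ 2 d`, `d ≥ 2` -/
theorem psl_of_block (hM : IsPModular p M) {d n : ℕ} (hd1 : 1 ≤ d) (hn : 2 * d ≤ n)
    (hd : Ordd p (Nat.card F) d) (hpF : (p : F) ≠ 0) (hq : ¬ p ∣ Nat.card F - 1) (hx : p ∣ Nat.card F ^ d - 1) :
    p ≤ Nat.card (principalBlock M (Matrix.ProjectiveSpecialLinearGroup (Fin n) F)) := by
  classical
  obtain ⟨L, _, _, _, hL⟩ := H477.HC.exists_L F d (by omega)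
  have hfd : FiniteDimensional F L := FiniteDimensional.of_finrank_pos (by omega)
  have hdiv : 2 ≤ n / d := (Nat.le_div_iff_mul_le (by omega)).2 hn
  obtain ⟨s, hs⟩ : ∃ s, n / d = s + 1 := ⟨n / d - 1, by omega⟩
  have hr : n % d < d := Nat.mod_lt _ (by omega)
  have hnd : n = s * d + (d + n % d) := by
    have h1 := Nat.div_add_mod n d
    rw [hs] at h1
    rw [← add_assoc, ← Nat.succ_mul, Nat.mul_comm]
    exact h1.symm
  have hV : finrank F ((Fin s → L) × (L × (Fin (n % d) → F))) = n := by
    rw [Module.finrank_prod, Module.finrank_prod, Module.finrank_fin_fun, Module.finrank_pi_fintype]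
    simp only [hL, Finset.sum_const, Finset.card_univ, Fintype.card_fin, smul_eq_mul]
    exact hnd.symm
  let b := Module.finBasisOfFinrankEq F _ hV
  let e₁ : Matrix.SpecialLinearGroup (Fin n) F ≃* _root_.SpecialLinearGroup F ((Fin s → L) × (L × (Fin (n % d) → F))) :=
    Matrix.SpecialLinearGroup.toLin_equiv b
  let e₂ : _root_.SpecialLinearGroup F ((Fin s → L) × (L × (Fin (n % d) → F))) ≃*
      ↥(SLs F ((Fin s → L) × (L × (Fin (n % d) → F)))) :=
    { toFun := fun g => ⟨g.1, mem_SLs.2 g.2⟩
      invFun := fun g => ⟨g.1, mem_SLs.1 g.2⟩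
      left_inv := fun _ => rfl
      right_inv := fun _ => rfl
      map_mul' := fun _ _ => rfl }
  let e := e₁.trans e₂
  have hcen : ¬ p ∣ Nat.card (center ↥(SLs F ((Fin s → L) × (L × (Fin (n % d) → F))))) := by
    rw [← Nat.card_congr (centerCongr e).toEquiv, ← H999.RowPSL.ker_pr]
    exact H999.RowPSL.not_dvd_center (by omega) Fact.out (by rwa [← Nat.card_eq_fintype_card])
  have h1 := sl_block hM (s := s) (r := n % d) (by omega) hr hL hd hpF hq hx (center _) hcen
  rw [H590.RankSum.card_congr (quotCenter e).symm] at h1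
  exact h1

/-- the Sylow `p`-subgroups of `PSL_n(q)` are cyclic if `n < 2 d` -/
theorem psl_cyclic {d n : ℕ} (hn : n < 2 * d) (hd : Ordd p (Nat.card F) d) (hpF : (p : F) ≠ 0) :
    ∃ P : Sylow p (Matrix.ProjectiveSpecialLinearGroup (Fin n) F),
      IsCyclic (P : Subgroup (Matrix.ProjectiveSpecialLinearGroup (Fin n) F)) := by
  obtain ⟨P₁⟩ : Nonempty (Sylow p (Matrix.SpecialLinearGroup (Fin n) F)) := inferInstance
  have hP₁ : IsCyclic (P₁ : Subgroup (Matrix.SpecialLinearGroup (Fin n) F)) := by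
    refine isCyclic_of (p := p) (V := Fin n → F) P₁.2
      (((Matrix.toLinAlgEquiv' : Matrix (Fin n) (Fin n) F ≃ₐ[F] _).toMulEquiv.toMonoidHom).comp
        (({ toFun := fun g => (g : Matrix (Fin n) (Fin n) F)
            map_one' := Matrix.SpecialLinearGroup.coe_one
            map_mul' := Matrix.SpecialLinearGroup.coe_mul } :
            Matrix.SpecialLinearGroup (Fin n) F →* Matrix (Fin n) (Fin n) F).comp
          (P₁ : Subgroup (Matrix.SpecialLinearGroup (Fin n) F)).subtype)) ?_
      hd hpF (by rw [Module.finrank_fin_fun]; exact hn)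
    exact fun a b hab => Subtype.ext (Subtype.ext (Matrix.toLinAlgEquiv'.injective hab))
  refine ⟨P₁.mapSurjective (QuotientGroup.mk'_surjective (center (Matrix.SpecialLinearGroup (Fin n) F))), ?_⟩
  rw [Sylow.coe_mapSurjective]
  exact isCyclic_of_surjective _ ((QuotientGroup.mk' (center (Matrix.SpecialLinearGroup (Fin n) F))).subgroupMap_surjective
    (P₁ : Subgroup (Matrix.SpecialLinearGroup (Fin n) F)))

end block

section unique

variable {G : Type u} [Group G] [Finite G] {p : ℕ} [Fact p.Prime] {M : Ideal AlgInt}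

/-- pairwise non-conjugate powers -/
theorem of_unique (hM : IsPModular p M) {z : G} (hz : orderOf z = p) (h : ∀ i : ℕ, IsConj z (z ^ i) → z ^ i = z) :
    p ≤ Nat.card (principalBlock M G) := by
  obtain ⟨s, h1, h2⟩ := col hM hz
  have h3 := Cfsg.Agent.H634.Cols.blockRank_pos (G := G) (p := p) hM
  have h4 := Cfsg.Agent.H634.Cols.blockRank_pos (G := ↥(centralizer ({z} : Set G))) (p := p) hM
  have h5 : (centralizer ({z} : Set G)).relIndex (normalizer ((zpowers z : Subgroup G) : Set G)) ≤ 1 := by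
    refine (relIndex_le_card z).trans (Finite.card_le_one_iff_subsingleton.2 ⟨fun a b => ?_⟩)
    have key : ∀ w : {w : G // w ∈ zpowers z ∧ IsConj z w}, w.1 = z := by
      intro w
      obtain ⟨i, hi⟩ := (mem_powers_iff_mem_zpowers.2 w.2.1)
      have h6 : z ^ i = w.1 := hi
      rw [← h6]
      exact h i (by rw [h6]; exact w.2.2)
    exact Subtype.ext ((key a).trans (key b).symm)
  have h6 : p - 1 ≤ s := h1.trans ((Nat.mul_le_mul_right s h5).trans (by rw [one_mul]))
  have h7 : s ≤ s * blockRank p (principalBlock M ↥(centralizer ({z} : Set G))) := Nat.le_mul_of_pos_right s h4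
  omega

end unique

section diag

variable {F : Type} [Field F] [Fintype F] {n : ℕ}

/-- a diagonal element of `SL_n` -/
def zD (D : Fin n → Fˣ) (h : ∏ j, D j = 1) : Matrix.SpecialLinearGroup (Fin n) F :=
  ⟨Matrix.diagonal fun j => (D j : F), by
    rw [Matrix.det_diagonal, ← Units.coe_prod, h, Units.val_one]⟩

theorem zD_val (D : Fin n → Fˣ) (h : ∏ j, D j = 1) :
    (zD D h : Matrix (Fin n) (Fin n) F) = Matrix.diagonal fun j => (D j : F) := rfl

theorem zD_pow (D : Fin n → Fˣ) (h : ∏ j, D j = 1) (i : ℕ) :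
    ((zD D h ^ i : Matrix.SpecialLinearGroup (Fin n) F) : Matrix (Fin n) (Fin n) F) =
      Matrix.diagonal fun j => (D j : F) ^ i := by
  rw [Matrix.SpecialLinearGroup.coe_pow, zD_val, Matrix.diagonal_pow]
  rfl

open Classical in
/-- conjugate diagonal matrices -/
theorem count_eq {a b : Fin n → F} {C : (Matrix (Fin n) (Fin n) F)ˣ}
    (h : C.val * Matrix.diagonal a * C⁻¹.val = Matrix.diagonal b) (μ : F) :
    (Finset.univ.filter fun j => a j = μ).card = (Finset.univ.filter fun j => b j = μ).card := by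
  have h1 := Matrix.charpoly_units_conj C (Matrix.diagonal a)
  rw [← Matrix.coe_units_inv] at h1
  rw [h, Matrix.charpoly_diagonal, Matrix.charpoly_diagonal] at h1
  have key : ∀ c : Fin n → F, (∏ i, (Polynomial.X - Polynomial.C (c i))).roots = Finset.univ.val.map c := by
    intro c
    have h2 := Polynomial.roots_multiset_prod_X_sub_C (Finset.univ.val.map c)
    rw [Multiset.map_map] at h2
    exact h2
  have h3 : (Finset.univ : Finset (Fin n)).val.map b = Finset.univ.val.map a := by rw [← key, ← key, h1]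
  have h4 : ∀ c : Fin n → F, (Finset.univ.filter fun j => c j = μ).card = Multiset.count μ (Finset.univ.val.map c) := by
    intro c
    rw [Multiset.count_map]
    change Multiset.card _ = _
    rw [Finset.filter_val]
    congr 1
    exact Multiset.filter_congr fun j _ => eq_comm
  rw [h4, h4, h3]

variable {p : ℕ} [Fact p.Prime] {M : Ideal AlgInt}

open Classical in
theorem psl_of_diag (hM : IsPModular p M) (D : Fin n → Fˣ) (h : ∏ j, D j = 1) (hDp : ∀ j, D j ^ p = 1)
    (hne : ∃ j k, D j ≠ D k)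
    (hD : ∀ (c : F) (i : ℕ), (∀ μ : F, (Finset.univ.filter fun j => (D j : F) = μ).card =
      (Finset.univ.filter fun j => (D j : F) ^ i * c = μ).card) → ∀ j, (D j : F) ^ i * c = D j) :
    p ≤ Nat.card (principalBlock M (Matrix.ProjectiveSpecialLinearGroup (Fin n) F)) := by
  have hcenter : ∀ w : Matrix.SpecialLinearGroup (Fin n) F, w ∈ center _ → ∃ r : F, (w : Matrix (Fin n) (Fin n) F) =
      Matrix.diagonal fun _ => r := by
    intro w hw
    obtain ⟨r, -, hr⟩ := Matrix.SpecialLinearGroup.mem_center_iff.1 hw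
    exact ⟨r, hr.symm⟩
  refine of_unique hM (z := (QuotientGroup.mk (zD D h) : Matrix.ProjectiveSpecialLinearGroup (Fin n) F)) ?_ fun i hi => ?_
  · refine orderOf_eq_prime ?_ fun h1 => ?_
    · rw [← QuotientGroup.mk_pow]
      have h2 : zD D h ^ p = 1 := by
        apply Subtype.ext
        have h3 := zD_pow D h p
        rw [h3]
        change _ = (1 : Matrix (Fin n) (Fin n) F)
        rw [← Matrix.diagonal_one]
        congr 1
        funext j
        rw [← Units.val_pow_eq_pow_val, hDp, Units.val_one]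
      rw [h2, QuotientGroup.mk_one]
    · obtain ⟨r, hr⟩ := hcenter _ ((QuotientGroup.eq_one_iff _).1 h1)
      obtain ⟨j, k, hjk⟩ := hne
      rw [zD_val] at hr
      have h2 := Matrix.diagonal_injective hr
      exact hjk (Units.ext ((congrFun h2 j).trans (congrFun h2 k).symm))
  · obtain ⟨c, hc⟩ := isConj_iff.1 hi
    obtain ⟨c, rfl⟩ := QuotientGroup.mk_surjective c
    rw [← QuotientGroup.mk_pow, ← QuotientGroup.mk_inv, ← QuotientGroup.mk_mul, ← QuotientGroup.mk_mul] at hc
    have hw := QuotientGroup.eq.1 hc.symm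
    obtain ⟨r, hr⟩ := hcenter _ hw
    set w := (zD D h ^ i)⁻¹ * (c * zD D h * c⁻¹) with hwdef
    have h1 : c * zD D h * c⁻¹ = zD D h ^ i * w := by rw [hwdef, mul_inv_cancel_left]
    have h2 : ((c * zD D h * c⁻¹ : Matrix.SpecialLinearGroup (Fin n) F) : Matrix (Fin n) (Fin n) F) =
        Matrix.diagonal fun j => (D j : F) ^ i * r := by
      rw [h1, Matrix.SpecialLinearGroup.coe_mul, zD_pow, hr, Matrix.diagonal_mul_diagonal]
    let C : (Matrix (Fin n) (Fin n) F)ˣ :=
      ⟨c, (c⁻¹ : Matrix.SpecialLinearGroup (Fin n) F), by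
        rw [← Matrix.SpecialLinearGroup.coe_mul, mul_inv_cancel, Matrix.SpecialLinearGroup.coe_one], by
        rw [← Matrix.SpecialLinearGroup.coe_mul, inv_mul_cancel, Matrix.SpecialLinearGroup.coe_one]⟩
    have h3 := hD r i fun μ => count_eq (a := fun j => (D j : F)) (C := C) (by
      rw [← h2, Matrix.SpecialLinearGroup.coe_mul, Matrix.SpecialLinearGroup.coe_mul]
      rfl) μ
    have h4 : zD D h ^ i * w = zD D h := by
      apply Subtype.ext
      have h5 : ((zD D h ^ i * w : Matrix.SpecialLinearGroup (Fin n) F) : Matrix (Fin n) (Fin n) F) =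
          Matrix.diagonal fun j => (D j : F) ^ i * r := by
        rw [Matrix.SpecialLinearGroup.coe_mul, zD_pow, hr, Matrix.diagonal_mul_diagonal]
      rw [h5]
      change _ = Matrix.diagonal fun j => (D j : F)
      congr 1
      funext j
      exact h3 j
    rw [← QuotientGroup.mk_pow]
    have h5 : (QuotientGroup.mk (zD D h ^ i * w) : Matrix.ProjectiveSpecialLinearGroup (Fin n) F) =
        QuotientGroup.mk (zD D h ^ i) := by
      rw [QuotientGroup.eq, mul_inv_rev, inv_mul_cancel_right]
      exact inv_mem hw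
    rw [← h5, h4]

/-- `d = 1`, `p ∤ n` -/
theorem psl_diag_one (hM : IsPModular p M) (hn : 3 ≤ n) (hpn : ¬ p ∣ n) (hq : p ∣ Nat.card F - 1) :
    p ≤ Nat.card (principalBlock M (Matrix.ProjectiveSpecialLinearGroup (Fin n) F)) := by
  classical
  have hp : p.Prime := Fact.out
  obtain ⟨x, hx⟩ := exists_prime_orderOf_dvd_card' (G := Fˣ) p (by rwa [Nat.card_units])
  have hxp : x ^ p = 1 := by rw [← hx, pow_orderOf_eq_one]
  let j₁ : Fin n := ⟨0, by omega⟩
  let j₂ : Fin n := ⟨1, by omega⟩
  have hj21 : j₂ ≠ j₁ := fun h => by simpa [j₁, j₂] using congrArg Fin.val h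
  set b : Fˣ := (x ^ (n - 1))⁻¹ with hb
  have hxb : x ≠ b := by
    intro h
    apply hpn
    rw [← hx]
    apply orderOf_dvd_of_pow_eq_one
    have h1 : x * x ^ (n - 1) = 1 := by
      nth_rewrite 1 [h]
      rw [hb, inv_mul_cancel]
    rw [← pow_succ', Nat.sub_add_cancel (by omega)] at h1
    exact h1
  let D : Fin n → Fˣ := fun j => if j = j₁ then b else x
  have hD1 : D j₁ = b := if_pos rfl
  have hD0 : ∀ j, j ≠ j₁ → D j = x := fun j hj => if_neg hj
  refine psl_of_diag hM D ?_ (fun j => ?_) ⟨j₂, j₁, by rw [hD1, hD0 _ hj21]; exact hxb⟩ fun c i hci => ?_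
  · rw [← Finset.mul_prod_erase Finset.univ D (Finset.mem_univ j₁), hD1,
      Finset.prod_congr rfl (g := fun _ => x) (fun j hj => hD0 j (Finset.ne_of_mem_erase hj)), Finset.prod_const,
      Finset.card_erase_of_mem (Finset.mem_univ _), Finset.card_univ, Fintype.card_fin, hb, inv_mul_cancel]
  · by_cases hj : j = j₁
    · rw [hj, hD1, hb, inv_pow, ← pow_mul, mul_comm, pow_mul, hxp, one_pow, inv_one]
    · rw [hD0 j hj, hxp]
  · have h1 : 2 ≤ (Finset.univ.filter fun j => (D j : F) ^ i * c = (x : F) ^ i * c).card := by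
      have h2 : (Finset.univ.erase j₁) ⊆ (Finset.univ.filter fun j => (D j : F) ^ i * c = (x : F) ^ i * c) := by
        intro j hj
        rw [Finset.mem_filter]
        exact ⟨Finset.mem_univ _, by rw [hD0 j (Finset.ne_of_mem_erase hj)]⟩
      have h3 := Finset.card_le_card h2
      rw [Finset.card_erase_of_mem (Finset.mem_univ _), Finset.card_univ, Fintype.card_fin] at h3
      omega
    rw [← hci] at h1
    have h2 : (x : F) ^ i * c = x := by
      obtain ⟨j, hj, hj1⟩ := Finset.exists_mem_ne (show 1 < _ from h1) j₁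
      have h3 := (Finset.mem_filter.1 hj).2
      rw [hD0 j hj1] at h3
      exact h3.symm
    have h3 : (b : F) ^ i * c = b := by
      have h4 : 0 < (Finset.univ.filter fun j => (D j : F) ^ i * c = (b : F)).card := by
        rw [← hci]
        exact Finset.card_pos.2 ⟨j₁, Finset.mem_filter.2 ⟨Finset.mem_univ _, by rw [hD1]⟩⟩
      obtain ⟨j, hj⟩ := Finset.card_pos.1 h4
      have h5 := (Finset.mem_filter.1 hj).2
      by_cases hj1 : j = j₁
      · rw [hj1, hD1] at h5; exact h5
      · rw [hD0 j hj1, h2] at h5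
        exact absurd (Units.ext h5) hxb
    intro j
    by_cases hj : j = j₁
    · rw [hj, hD1]; exact h3
    · rw [hD0 j hj]; exact h2

/-- `d = 1`, `n` large -/
theorem psl_diag_two (hM : IsPModular p M) (hn : 7 ≤ n) (hq : p ∣ Nat.card F - 1) :
    p ≤ Nat.card (principalBlock M (Matrix.ProjectiveSpecialLinearGroup (Fin n) F)) := by
  classical
  have hp : p.Prime := Fact.out
  obtain ⟨x, hx⟩ := exists_prime_orderOf_dvd_card' (G := Fˣ) p (by rwa [Nat.card_units])
  have hxp : x ^ p = 1 := by rw [← hx, pow_orderOf_eq_one]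
  let j₀ : Fin n := ⟨0, by omega⟩
  let j₁ : Fin n := ⟨1, by omega⟩
  let j₂ : Fin n := ⟨2, by omega⟩
  let j₃ : Fin n := ⟨3, by omega⟩
  have h10 : j₁ ≠ j₀ := fun h => by simpa [j₀, j₁] using congrArg Fin.val h
  have h20 : j₂ ≠ j₀ := fun h => by simpa [j₀, j₂] using congrArg Fin.val h
  have h21 : j₂ ≠ j₁ := fun h => by simpa [j₁, j₂] using congrArg Fin.val h
  have h30 : j₃ ≠ j₀ := fun h => by simpa [j₀, j₃] using congrArg Fin.val h
  have h31 : j₃ ≠ j₁ := fun h => by simpa [j₁, j₃] using congrArg Fin.val h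
  have h32 : j₃ ≠ j₂ := fun h => by simpa [j₂, j₃] using congrArg Fin.val h
  have hx1 : x ≠ 1 := by
    rintro rfl
    rw [orderOf_one] at hx
    exact hp.one_lt.ne hx
  set b : Fˣ := (x ^ 2)⁻¹ with hb
  let D : Fin n → Fˣ := fun j => if j = j₂ then b else if j = j₀ ∨ j = j₁ then x else 1
  have hD2 : D j₂ = b := if_pos rfl
  have hD0 : D j₀ = x := by
    change (if j₀ = j₂ then b else if j₀ = j₀ ∨ j₀ = j₁ then x else 1) = x
    rw [if_neg h20.symm, if_pos (Or.inl rfl)]
  have hD1 : D j₁ = x := by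
    change (if j₁ = j₂ then b else if j₁ = j₀ ∨ j₁ = j₁ then x else 1) = x
    rw [if_neg h21.symm, if_pos (Or.inr rfl)]
  have hDe : ∀ j, j ≠ j₀ → j ≠ j₁ → j ≠ j₂ → D j = 1 := by
    intro j a1 a2 a3
    change (if j = j₂ then b else if j = j₀ ∨ j = j₁ then x else 1) = 1
    rw [if_neg a3, if_neg (fun h => h.elim a1 a2)]
  have hcases : ∀ j, j = j₀ ∨ j = j₁ ∨ j = j₂ ∨ D j = 1 := by
    intro j
    by_cases a1 : j = j₀
    · exact Or.inl a1
    by_cases a2 : j = j₁
    · exact Or.inr (Or.inl a2)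
    by_cases a3 : j = j₂
    · exact Or.inr (Or.inr (Or.inl a3))
    exact Or.inr (Or.inr (Or.inr (hDe j a1 a2 a3)))
  refine psl_of_diag hM D ?_ (fun j => ?_) ⟨j₀, j₃, by rw [hD0, hDe _ h30 h31 h32]; exact hx1⟩ fun c i hci => ?_
  · rw [← Finset.mul_prod_erase Finset.univ D (Finset.mem_univ j₂), hD2,
      ← Finset.mul_prod_erase (Finset.univ.erase j₂) D (Finset.mem_erase.2 ⟨h20.symm, Finset.mem_univ j₀⟩), hD0,
      ← Finset.mul_prod_erase ((Finset.univ.erase j₂).erase j₀) D
        (Finset.mem_erase.2 ⟨h10, Finset.mem_erase.2 ⟨h21.symm, Finset.mem_univ j₁⟩⟩), hD1,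
      Finset.prod_eq_one (fun j hj => ?_), hb, mul_one, ← pow_two, inv_mul_cancel]
    rw [Finset.mem_erase, Finset.mem_erase, Finset.mem_erase] at hj
    exact hDe j hj.2.1 hj.1 hj.2.2.1
  · rcases hcases j with rfl | rfl | rfl | h
    · rw [hD0, hxp]
    · rw [hD1, hxp]
    · rw [hD2, hb, inv_pow, ← pow_mul, mul_comm, pow_mul, hxp, one_pow, inv_one]
    · rw [h, one_pow]
  · -- `c = 1`
    have hc1 : c = 1 := by
      by_contra hc
      have h1 : (Finset.univ \ {j₀, j₁, j₂} : Finset (Fin n)) ⊆ Finset.univ.filter fun j => (D j : F) ^ i * c = c := by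
        intro j hj
        simp only [Finset.mem_sdiff, Finset.mem_univ, true_and, Finset.mem_insert, Finset.mem_singleton, not_or] at hj
        rw [Finset.mem_filter]
        refine ⟨Finset.mem_univ _, ?_⟩
        rw [hDe j hj.1 hj.2.1 hj.2.2, Units.val_one, one_pow, one_mul]
      have h2 := Finset.card_le_card h1
      rw [← hci] at h2
      have h3 : (Finset.univ.filter fun j => (D j : F) = c) ⊆ ({j₀, j₁, j₂} : Finset (Fin n)) := by
        intro j hj
        have h4 := (Finset.mem_filter.1 hj).2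
        simp only [Finset.mem_insert, Finset.mem_singleton]
        rcases hcases j with h | h | h | h
        · exact Or.inl h
        · exact Or.inr (Or.inl h)
        · exact Or.inr (Or.inr h)
        · rw [h, Units.val_one] at h4
          exact absurd h4.symm hc
      have h4 := Finset.card_le_card h3
      have h5 : ({j₀, j₁, j₂} : Finset (Fin n)).card ≤ 3 := Finset.card_le_three
      have h6 : (Finset.univ \ {j₀, j₁, j₂} : Finset (Fin n)).card = n - ({j₀, j₁, j₂} : Finset (Fin n)).card := by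
        rw [Finset.card_sdiff_of_subset (Finset.subset_univ _), Finset.card_univ, Fintype.card_fin]
      omega
    subst hc1
    have hxi : (x : F) ^ i = x := by
      by_contra hne
      have h1 : ({j₀, j₁} : Finset (Fin n)) ⊆ Finset.univ.filter fun j => (D j : F) = x := by
        intro j hj
        rw [Finset.mem_insert, Finset.mem_singleton] at hj
        rw [Finset.mem_filter]
        rcases hj with rfl | rfl
        · exact ⟨Finset.mem_univ _, by rw [hD0]⟩
        · exact ⟨Finset.mem_univ _, by rw [hD1]⟩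
      have h2 := Finset.card_le_card h1
      rw [Finset.card_pair h10.symm, hci] at h2
      have h3 : (Finset.univ.filter fun j => (D j : F) ^ i * 1 = x) ⊆ ({j₂} : Finset (Fin n)) := by
        intro j hj
        have h4 := (Finset.mem_filter.1 hj).2
        rw [mul_one] at h4
        rw [Finset.mem_singleton]
        rcases hcases j with rfl | rfl | h | h
        · rw [hD0] at h4; exact absurd h4 hne
        · rw [hD1] at h4; exact absurd h4 hne
        · exact h
        · rw [h, Units.val_one, one_pow] at h4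
          exact absurd (Units.ext h4.symm) hx1
      have h4 := Finset.card_le_card h3
      rw [Finset.card_singleton] at h4
      omega
    intro j
    rw [mul_one]
    rcases hcases j with rfl | rfl | rfl | h
    · rw [hD0, hxi]
    · rw [hD1, hxi]
    · rw [hD2, hb, Units.val_inv_eq_inv_val, Units.val_pow_eq_pow_val, inv_pow, ← pow_mul, mul_comm, pow_mul, hxi]
    · rw [h, Units.val_one, one_pow]

end diag

/-- the row `PSL` for all `p ≥ 7` -/
theorem kb_psl_seven {p : ℕ} [Fact p.Prime] {M : Ideal AlgInt} {S : Type u} [Group S] [Finite S] [IsSimpleGroup S]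
    {r : ℕ} [Fact r.Prime] (hrp : r ≠ p) (h7 : 7 ≤ p) (hM : IsPModular p M) (h : IsPSLChar r S)
    (hP : ∀ P : Sylow p S, ¬ IsCyclic (P : Subgroup S)) : p ≤ H508.KB.kB M S := by
  classical
  have hp : p.Prime := Fact.out
  have hr : r.Prime := Fact.out
  obtain ⟨F, _, _, hch, n, hn2, -, ⟨e⟩⟩ := h
  have hpF : (p : F) ≠ 0 := by
    intro h0
    rw [CharP.cast_eq_zero_iff F r] at h0
    exact hrp ((Nat.prime_dvd_prime_iff_eq hr hp).1 h0)
  obtain ⟨f, -, hf⟩ := FiniteField.card F r
  have hpq : ¬ p ∣ Nat.card F := by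
    rw [Nat.card_eq_fintype_card, hf]
    intro h0
    exact hrp ((Nat.prime_dvd_prime_iff_eq hp hr).1 (hp.dvd_of_dvd_pow h0)).symm
  unfold H508.KB.kB
  rw [H590.RankSum.card_congr e]
  have hnc : ¬ ∃ P : Sylow p (Matrix.ProjectiveSpecialLinearGroup (Fin n) F),
      IsCyclic (P : Subgroup (Matrix.ProjectiveSpecialLinearGroup (Fin n) F)) := by
    rintro ⟨P, hc⟩
    apply hP (P.mapSurjective (f := e.symm.toMonoidHom) e.symm.surjective)
    have h2 : ((P.mapSurjective (f := e.symm.toMonoidHom) e.symm.surjective : Sylow p S) : Subgroup S) =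
        (P : Subgroup (Matrix.ProjectiveSpecialLinearGroup (Fin n) F)).map e.symm.toMonoidHom := rfl
    rw [h2]
    exact isCyclic_of_surjective _ (e.symm.toMonoidHom.subgroupMap_surjective
      (P : Subgroup (Matrix.ProjectiveSpecialLinearGroup (Fin n) F)))
  set d := orderOf ((Nat.card F : ℕ) : ZMod p) with hd
  have hdvd : ∀ m : ℕ, p ∣ Nat.card F ^ m - 1 ↔ d ∣ m := by
    intro m
    rw [hd, orderOf_dvd_iff_pow_eq_one, ← Nat.cast_pow, ← Nat.cast_one (R := ZMod p), ZMod.natCast_eq_natCast_iff,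
      Nat.ModEq.comm, Nat.modEq_iff_dvd' (Nat.one_le_pow _ _ Nat.card_pos)]
  have hOrd : Ordd p (Nat.card F) d := fun m hm => (hdvd m).1 hm
  have hd0 : 0 < d := by
    rw [hd, orderOf_pos_iff]
    have h0 : ((Nat.card F : ℕ) : ZMod p) ≠ 0 := by
      rw [Ne, ZMod.natCast_eq_zero_iff]; exact hpq
    exact isOfFinOrder_iff_pow_eq_one.2 ⟨p - 1, by omega, ZMod.pow_card_sub_one_eq_one h0⟩
  rcases Nat.lt_or_ge n (2 * d) with hlt | hge
  · exact absurd (psl_cyclic hlt hOrd hpF) hnc
  rcases Nat.lt_or_ge 1 d with h1 | h1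
  · refine psl_of_block hM hd0 hge hOrd hpF (fun h2 => ?_) ((hdvd d).2 dvd_rfl)
    have h3 := (hdvd 1).1 (by rwa [pow_one])
    exact absurd (Nat.le_of_dvd one_pos h3) (by omega)
  · have hd1 : d = 1 := by omega
    have hq1 : p ∣ Nat.card F - 1 := by
      have := (hdvd 1).2 (by rw [hd1])
      rwa [pow_one] at this
    rcases Nat.lt_or_ge n 3 with h3 | h3
    · have hn : n = 2 := by omega
      subst hn
      obtain ⟨P⟩ : Nonempty (Sylow p (Matrix.ProjectiveSpecialLinearGroup (Fin 2) F)) := inferInstance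
      exact absurd ⟨P, H109.EndPsl.isCyclic_sylow (by omega) hpq P⟩ hnc
    · by_cases hpn : p ∣ n
      · exact psl_diag_two hM (by have := Nat.le_of_dvd (by omega) hpn; omega) hq1
      · exact psl_diag_one hM h3 hpn hq1

/-- **S4822, KB1** -/
theorem kb_psl {p : ℕ} [Fact p.Prime] {M : Ideal AlgInt} {S : Type u} [Group S] [Finite S] [IsSimpleGroup S]
    {r : ℕ} [Fact r.Prime] (hrp : r ≠ p) (h11 : 11 ≤ p) (hM : IsPModular p M) (h : IsPSLChar r S)
    (hP : ∀ P : Sylow p S, ¬ IsCyclic (P : Subgroup S)) : p ≤ H508.KB.kB M S :=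
  kb_psl_seven hrp (le_trans (by norm_num) h11) hM h hP

end Cfsg.Agent.H734.KB
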