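import Cfsg.Agent.H734.KB.Crit

/-!
# The criterion for `p ≤ k(B₀)` with exponents (S4822, helper734)

* `relIndex_le_card` : `|N(⟨z⟩) : C(z)| ≤ #{w ∈ ⟨z⟩ | w ~ z}`;
* `card_le_relIndex` : `D` an abelian Sylow `p`-subgroup, `u ∈ D`: `#{w ∈ ⟨u⟩ | w ~ u} ≤ |N(D) : C(D)|`;
* `crit_exp` : `π : C(z) → Q`, the `p`-subgroups of `Q` are cyclic, `u ∈ π(C(z))` of order `p`, and `z ~ zⁱ` implies that
  `u` and `uⁱ` are conjugate in `π(C(z))`. Then `p ≤ k(B₀(G))`;
* `crit_exp_quot` : the same for `G / Z`, `Z` a normal `p'`-subgroup of `G`.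
-/

set_option autoImplicit false

open Cfsg Cfsg.Agent.Blocks.Basic Cfsg.Agent.Blocks.Local Module Subgroup

namespace Cfsg.Agent.H734.KB

universe u v

variable {G : Type u} [Group G] [Finite G] {p : ℕ} [Fact p.Prime] {M : Ideal AlgInt}

omit [Fact p.Prime] in
theorem relIndex_le_card (z : G) :
    (centralizer ({z} : Set G)).relIndex (normalizer ((zpowers z : Subgroup G) : Set G)) ≤
      Nat.card {w : G // w ∈ zpowers z ∧ IsConj z w} := by
  classical
  set N := normalizer ((zpowers z : Subgroup G) : Set G) with hN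
  let _ : MulAction ↥N G := MulAction.compHom G ((MulAut.conj : G →* MulAut G).comp N.subtype)
  have hsm : ∀ (n : ↥N) (g : G), n • g = (n : G) * g * (n : G)⁻¹ := fun _ _ => rfl
  have h2 : (centralizer ({z} : Set G)).subgroupOf N = MulAction.stabilizer ↥N z := by
    ext n
    rw [mem_subgroupOf, MulAction.mem_stabilizer_iff, hsm, mul_inv_eq_iff_eq_mul, mem_centralizer_singleton_iff]
  rw [relIndex, h2, MulAction.index_stabilizer ↥N z, ← Nat.card_coe_set_eq]
  refine Nat.card_le_card_of_injective (fun w : MulAction.orbit ↥N z => (⟨w.1, ?_, ?_⟩ :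
    {w : G // w ∈ zpowers z ∧ IsConj z w})) (fun a b h => Subtype.ext (congrArg (fun y : {w : G // w ∈ zpowers z ∧ IsConj z w} => y.1) h))
  · obtain ⟨n, hn⟩ := w.2
    rw [← hn]
    exact (mem_normalizer_iff.1 n.2 z).1 (mem_zpowers z)
  · obtain ⟨n, hn⟩ := w.2
    exact isConj_iff.2 ⟨n, hn⟩

theorem card_le_relIndex (P : Sylow p G) [hP : IsMulCommutative (P : Subgroup G)] {u : G} (hu : u ∈ (P : Subgroup G)) :
    Nat.card {w : G // w ∈ zpowers u ∧ IsConj u w} ≤
      (centralizer ((P : Subgroup G) : Set G)).relIndex (normalizer ((P : Subgroup G) : Set G)) := by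
  classical
  set N := normalizer ((P : Subgroup G) : Set G) with hN
  let _ : MulAction ↥N G := MulAction.compHom G ((MulAut.conj : G →* MulAut G).comp N.subtype)
  have hsm : ∀ (n : ↥N) (g : G), n • g = (n : G) * g * (n : G)⁻¹ := fun _ _ => rfl
  have h1 : (MulAction.orbit ↥N u).ncard ≤ (centralizer ((P : Subgroup G) : Set G)).relIndex N := by
    have h2 : (centralizer ((P : Subgroup G) : Set G)).subgroupOf N ≤ MulAction.stabilizer ↥N u := by
      intro n hn
      rw [MulAction.mem_stabilizer_iff, hsm, mul_inv_eq_iff_eq_mul]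
      exact ((mem_subgroupOf.1 hn) u hu).symm
    rw [relIndex, ← MulAction.index_stabilizer ↥N u]
    exact Subgroup.index_antitone h2
  refine le_trans ?_ h1
  rw [← Nat.card_coe_set_eq]
  refine Nat.card_le_card_of_injective (fun w : {w : G // w ∈ zpowers u ∧ IsConj u w} =>
    (⟨w.1, ?_⟩ : MulAction.orbit ↥N u)) (fun a b h => Subtype.ext (congrArg (fun y : MulAction.orbit ↥N u => y.1) h))
  obtain ⟨g, hg⟩ := isConj_iff.1 w.2.2
  have hwP : w.1 ∈ (P : Subgroup G) := zpowers_le.2 hu w.2.1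
  have h4 : (g⁻¹)⁻¹ * u * g⁻¹ = w.1 := by rw [inv_inv, hg]
  obtain ⟨n, hn, hn2⟩ := P.conj_eq_normalizer_conj_of_mem u g⁻¹ hu (by rw [h4]; exact hwP)
  refine ⟨⟨n⁻¹, inv_mem hn⟩, ?_⟩
  change n⁻¹ * u * (n⁻¹)⁻¹ = w.1
  rw [inv_inv, ← hn2, h4]

omit [Fact p.Prime] in
/-- the exponents -/
theorem card_le_card {Q : Type v} [Group Q] [Finite Q] {z : G} {u : Q} (hz : orderOf z = p) (hu : orderOf u = p)
    (h : ∀ i : ℕ, IsConj z (z ^ i) → IsConj u (u ^ i)) :
    Nat.card {w : G // w ∈ zpowers z ∧ IsConj z w} ≤ Nat.card {w : Q // w ∈ zpowers u ∧ IsConj u w} := by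
  classical
  have hex : ∀ w : {w : G // w ∈ zpowers z ∧ IsConj z w}, ∃ i : ℕ, i < p ∧ z ^ i = w.1 := by
    intro w
    have h1 := mem_zpowers_iff_mem_range_orderOf.1 w.2.1
    obtain ⟨i, hi, hi2⟩ := Finset.mem_image.1 h1
    rw [hz, Finset.mem_range] at hi
    exact ⟨i, hi, hi2⟩
  choose i hi hiw using hex
  refine Nat.card_le_card_of_injective (fun w => (⟨u ^ i w, ⟨(i w : ℤ), by simp⟩, h _ (by rw [hiw]; exact w.2.2)⟩ :
    {w : Q // w ∈ zpowers u ∧ IsConj u w})) ?_
  intro a b hab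
  have h1 : u ^ i a = u ^ i b := congrArg (fun y : {w : Q // w ∈ zpowers u ∧ IsConj u w} => y.1) hab
  have h2 : i a = i b := pow_injOn_Iio_orderOf (by rw [Set.mem_Iio, hu]; exact hi a) (by rw [Set.mem_Iio, hu]; exact hi b) h1
  exact Subtype.ext (by rw [← hiw a, ← hiw b, h2])

/-- **the criterion with exponents** -/
theorem crit_exp (hM : IsPModular p M) {z : G} (hz : orderOf z = p) {Q : Type v} [Group Q]
    (f : ↥(centralizer ({z} : Set G)) →* Q) (hc : ∀ R : Subgroup Q, IsPGroup p R → IsCyclic R) {u : Q}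
    (huf : u ∈ f.range) (hu : orderOf u = p)
    (h : ∀ i : ℕ, IsConj z (z ^ i) → ∃ g ∈ f.range, g * u * g⁻¹ = u ^ i) :
    p ≤ Nat.card (principalBlock M G) := by
  have hfin : Finite f.range := Finite.of_surjective f.rangeRestrict f.rangeRestrict_surjective
  let u' : f.range := ⟨u, huf⟩
  have hu' : orderOf u' = p := by rw [← hu]; exact Subgroup.orderOf_mk u huf
  have hpg : IsPGroup p (zpowers u') := IsPGroup.of_card (n := 1) (by rw [Nat.card_zpowers, hu', pow_one])
  obtain ⟨P, hP⟩ := hpg.exists_le_sylow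
  have hPc : IsCyclic P := by
    have h1 := hc ((P : Subgroup f.range).map f.range.subtype) (P.2.map _)
    exact isCyclic_of_injective (((P : Subgroup f.range).equivMapOfInjective _ f.range.subtype_injective).toMonoidHom)
      (MulEquiv.injective _)
  have hcom : IsMulCommutative (P : Subgroup f.range) := ⟨⟨IsCyclic.commGroup.mul_comm⟩⟩
  refine crit hM hz f.rangeRestrict f.rangeRestrict_surjective P hPc ?_ ?_
  · rw [← hu']; exact orderOf_dvd_natCard u'
  · refine (relIndex_le_card z).trans ((card_le_card hz hu' fun i hi => ?_).trans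
      (card_le_relIndex P (hP (mem_zpowers u'))))
    obtain ⟨g, hg, hgu⟩ := h i hi
    exact isConj_iff.2 ⟨⟨g, hg⟩, Subtype.ext (by simpa using hgu)⟩

/-- the criterion for `G / N`, `N` a normal `p'`-subgroup -/
theorem crit_exp_quot (hM : IsPModular p M) (N : Subgroup G) [N.Normal] (hN : ¬ p ∣ Nat.card N) {z : G}
    (hz : orderOf z = p) {Q : Type v} [Group Q]
    (f : ↥(centralizer ({z} : Set G)) →* Q) (hc : ∀ R : Subgroup Q, IsPGroup p R → IsCyclic R) {u : Q}
    (huf : u ∈ f.range) (hu : orderOf u = p)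
    (h : ∀ i : ℕ, IsConj z (z ^ i) → ∃ g ∈ f.range, g * u * g⁻¹ = u ^ i) :
    p ≤ Nat.card (principalBlock M (G ⧸ N)) := by
  rw [Cfsg.Agent.H634.Quot.card_quot hM N hN]
  exact crit_exp hM hz f hc huf hu h

end Cfsg.Agent.H734.KB
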