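import Cfsg.Agent.H734.KB.Geo
import Mathlib.LinearAlgebra.SpecialLinearGroup
import Mathlib.FieldTheory.Minpoly.IsConjRoot

/-!
# Blocks: the space `V = A × (L × C)` (S4822, helper734)

`A` an `L`-space, `L / F` a finite field extension, `C` an `F`-space; `blk a b c : (v, (w, y)) ↦ (a v, (b w, c y))`.
* `conjRoot_of_semi` : a nonzero `ψ : L → L` with `ψ (x y) = x' ψ y` makes `x'` a conjugate of `x`;
* `conjRoot_of_conj` : if `blk x 1 1` is conjugate to its power by a linear map, the power of `x` is a conjugate of `x`.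
-/

set_option autoImplicit false

open Cfsg Module Subgroup

namespace Cfsg.Agent.H734.KB

universe u v w

section field

variable {F : Type u} [Field F] {L : Type v} [Field L] [Algebra F L] [FiniteDimensional F L]

theorem conjRoot_of_semi {x x' : L} {ψ : L →ₗ[F] L} (h0 : ψ ≠ 0) (h : ∀ y, ψ (x * y) = x' * ψ y) :
    IsConjRoot F x x' := by
  have key : ∀ (P : Polynomial F) (y : L), ψ (Polynomial.aeval x P * y) = Polynomial.aeval x' P * ψ y := by
    intro P
    induction P using Polynomial.induction_on with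
    | C a =>
      intro y
      rw [Polynomial.aeval_C, Polynomial.aeval_C, ← Algebra.smul_def, ← Algebra.smul_def, map_smul]
    | add P Q hP hQ => intro y; rw [map_add, map_add, add_mul, add_mul, map_add, hP, hQ]
    | monomial n a hn =>
      intro y
      rw [pow_succ, ← mul_assoc, map_mul (Polynomial.aeval x), map_mul (Polynomial.aeval x'), Polynomial.aeval_X,
        Polynomial.aeval_X, mul_assoc, hn, h, mul_assoc]
  obtain ⟨y, hy⟩ : ∃ y, ψ y ≠ 0 := by
    by_contra hno
    push Not at hno
    exact h0 (LinearMap.ext hno)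
  have h1 := key (minpoly F x) y
  rw [minpoly.aeval, zero_mul, map_zero] at h1
  have h2 : Polynomial.aeval x' (minpoly F x) = 0 := (mul_eq_zero.1 h1.symm).resolve_right hy
  have hx : IsIntegral F x := Algebra.IsIntegral.isIntegral x
  exact (minpoly.eq_of_irreducible_of_monic (minpoly.irreducible hx) h2 (minpoly.monic hx))

end field

section blk

variable {F : Type u} [Field F] {L : Type v} [Field L] [Algebra F L]
  {A : Type v} [AddCommGroup A] [Module F A] {C : Type w} [AddCommGroup C] [Module F C]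

/-- block diagonal maps -/
def blk (a : A ≃ₗ[F] A) (b : L ≃ₗ[F] L) (c : C ≃ₗ[F] C) : (A × (L × C)) ≃ₗ[F] (A × (L × C)) :=
  a.prodCongr (b.prodCongr c)

theorem blk_apply (a : A ≃ₗ[F] A) (b : L ≃ₗ[F] L) (c : C ≃ₗ[F] C) (v : A × (L × C)) :
    blk a b c v = (a v.1, (b v.2.1, c v.2.2)) := rfl

theorem blk_mul (a a' : A ≃ₗ[F] A) (b b' : L ≃ₗ[F] L) (c c' : C ≃ₗ[F] C) :
    blk a b c * blk a' b' c' = blk (a * a') (b * b') (c * c') := rfl

theorem blk_one : blk (1 : A ≃ₗ[F] A) (1 : L ≃ₗ[F] L) (1 : C ≃ₗ[F] C) = 1 := rfl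

/-- `blk` as a homomorphism -/
def blkH : (A ≃ₗ[F] A) × ((L ≃ₗ[F] L) × (C ≃ₗ[F] C)) →* ((A × (L × C)) ≃ₗ[F] (A × (L × C))) where
  toFun y := blk y.1 y.2.1 y.2.2
  map_one' := rfl
  map_mul' _ _ := rfl

variable (F)

/-- multiplication by a unit of `L` on an `L`-space -/
def mulE (A : Type v) [AddCommGroup A] [Module F A] [Module L A] [IsScalarTower F L A] [SMulCommClass F L A] :
    Lˣ →* (A ≃ₗ[F] A) where
  toFun x :=
    { toFun := fun v => (x : L) • v
      invFun := fun v => ((x⁻¹ : Lˣ) : L) • v
      map_add' := fun v w => smul_add _ _ _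
      map_smul' := fun c v => (smul_comm c (x : L) v).symm
      left_inv := fun v => by
        change ((x⁻¹ : Lˣ) : L) • (x : L) • v = v
        rw [smul_smul, Units.inv_mul, one_smul]
      right_inv := fun v => by
        change (x : L) • ((x⁻¹ : Lˣ) : L) • v = v
        rw [smul_smul, Units.mul_inv, one_smul] }
  map_one' := by ext v; exact one_smul _ _
  map_mul' x y := by ext v; exact mul_smul _ _ _

end blk

end Cfsg.Agent.H734.KB
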