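import Cfsg.Agent.H634.Cols
import Cfsg.Agent.H634.Quot
import Cfsg.Agent.H736.S4790.Cyc
import Cfsg.Agent.H590.RankSum
import Cfsg.Agent.H589.CosetReg

/-!
# Lower bounds for `k(B₀)` (S4822, helper734)

`k(B₀(G)) = ∑ l(B₀(C_G(x)))` over the classes of `p`-elements (H634).

* `sum_le` : partial sums;
* `exists_gens` : `z` of order `p`: at least `(p - 1) / |N(⟨z⟩) : C(z)|` classes of generators of `⟨z⟩`;
* `col`, `col_two` : `l(B₀(G)) + (p-1)/f · l(B₀(C(z))) ≤ k(B₀(G))`;
* `rank_surj` : `l(B₀(Q)) ≤ l(B₀(H))` for `H ↠ Q`;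
* `rank_cyclic` : `l(B₀(Q)) = |N_Q(D) : C_Q(D)|`, `D` a cyclic nontrivial Sylow `p`-subgroup;
* `crit` : `C(z) ↠ Q`, `D` cyclic nontrivial, `|N(⟨z⟩) : C(z)| ≤ |N_Q(D) : C_Q(D)|` gives `p ≤ k(B₀(G))`.
-/

set_option autoImplicit false

open Cfsg Cfsg.Agent.Blocks.Basic Cfsg.Agent.Blocks.Local Module Subgroup

namespace Cfsg.Agent.H734.KB

open Cfsg.Agent.H608.BlockRank Cfsg.Agent.H634.Cols

universe u v

section cols

variable {G : Type u} [Group G] [Finite G] {p : ℕ} [Fact p.Prime] {M : Ideal AlgInt}

/-- partial sums of Brauer's formula -/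
theorem sum_le (hM : IsPModular p M) (S : Finset G) (hS : ∀ x ∈ S, ∃ k : ℕ, orderOf x = p ^ k)
    (hinj : ∀ x ∈ S, ∀ y ∈ S, IsConj x y → x = y) :
    ∑ x ∈ S, blockRank p (principalBlock M ↥(centralizer ({x} : Set G))) ≤ Nat.card (principalBlock M G) := by
  obtain ⟨X, hSX, hX, hXrep⟩ := exists_reps S hS hinj
  rw [card_principal_eq hM X hX hXrep]
  exact Finset.sum_le_sum_of_subset hSX

theorem rank_one (hM : IsPModular p M) :
    blockRank p (principalBlock M ↥(centralizer ({(1 : G)} : Set G))) = blockRank p (principalBlock M G) := by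
  rw [← finrank_secMap_principal hM ⟨0, by simp⟩, finrank_secMap_one]

omit [Finite G] in
theorem centralizer_eq_of_zpowers {x z : G} (h : zpowers x = zpowers z) :
    centralizer ({x} : Set G) = centralizer ({z} : Set G) := by
  have key : ∀ {x z : G}, zpowers x = zpowers z → centralizer ({x} : Set G) ≤ centralizer ({z} : Set G) := by
    intro x z h c hc
    obtain ⟨k, hk⟩ := mem_zpowers_iff.1 (show z ∈ zpowers x by rw [h]; exact mem_zpowers z)
    rw [mem_centralizer_singleton_iff] at hc ⊢
    rw [← hk]
    exact ((show Commute c x from hc).zpow_right k).eq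
  exact le_antisymm (key h) (key h.symm)

omit [Finite G] in
theorem zpowers_eq_of_mem [Finite G] {x z : G} (hz : orderOf z = p) (hx : x ∈ zpowers z) (hx1 : x ≠ 1) :
    zpowers x = zpowers z := by
  have hp : p.Prime := Fact.out
  have h1 : zpowers x ≤ zpowers z := zpowers_le.2 hx
  have h2 : Nat.card (zpowers z) = p := by rw [Nat.card_zpowers, hz]
  have h3 : Nat.card (zpowers x) ∣ p := by
    have := card_dvd_of_le h1
    rwa [h2] at this
  have h4 : Nat.card (zpowers x) ≠ 1 := by
    rw [Nat.card_zpowers, Ne, orderOf_eq_one_iff]; exact hx1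
  exact eq_of_le_of_card_ge h1 (by rw [h2, ((Nat.dvd_prime hp).1 h3).resolve_left h4])

/-- at least `(p-1)/f` classes of generators of `⟨z⟩` -/
theorem exists_gens {z : G} (hz : orderOf z = p) :
    ∃ S : Finset G, (∀ x ∈ S, x ≠ 1 ∧ zpowers x = zpowers z) ∧ (∀ x ∈ S, ∀ y ∈ S, IsConj x y → x = y) ∧
      p - 1 ≤ (centralizer ({z} : Set G)).relIndex (normalizer ((zpowers z : Subgroup G) : Set G)) * S.card := by
  classical
  have hp : p.Prime := Fact.out
  have := Fintype.ofFinite G
  set N := normalizer ((zpowers z : Subgroup G) : Set G) with hN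
  set f := (centralizer ({z} : Set G)).relIndex N with hf
  let Ω : Finset G := Finset.univ.filter fun x => x ∈ zpowers z ∧ x ≠ 1
  have hΩc : Ω.card = p - 1 := by
    have h0 : (Finset.univ.filter fun x : G => x ∈ zpowers z).card = p := by
      have h2 : (Finset.univ.filter fun x : G => x ∈ zpowers z).card = Nat.card (zpowers z) := by
        rw [Nat.card_eq_fintype_card, Fintype.card_subtype]
      rw [h2, Nat.card_zpowers, hz]
    have h1 : Ω = (Finset.univ.filter fun x : G => x ∈ zpowers z).erase 1 := by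
      ext x; simp [Ω, and_comm]
    rw [h1, Finset.card_erase_of_mem (by simp [one_mem]), h0]
  have hΩ : ∀ x ∈ Ω, x ≠ 1 ∧ zpowers x = zpowers z := by
    intro x hx
    obtain ⟨h1, h2⟩ := (Finset.mem_filter.1 hx).2
    exact ⟨h2, zpowers_eq_of_mem hz h1 h2⟩
  let c : G → ConjClasses G := ConjClasses.mk
  have hfib : ∀ a ∈ Ω.image c, (Ω.filter fun x => c x = a).card ≤ f := by
    intro a hac
    obtain ⟨x, hx, rfl⟩ := Finset.mem_image.1 hac
    obtain ⟨hx1, hxz⟩ := hΩ x hx
    let _ : MulAction ↥N G := MulAction.compHom G ((MulAut.conj : G →* MulAut G).comp N.subtype)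
    have hsm : ∀ (n : ↥N) (g : G), n • g = (n : G) * g * (n : G)⁻¹ := fun _ _ => rfl
    have h1 : (MulAction.orbit ↥N x).ncard ≤ f := by
      have h2 : (centralizer ({z} : Set G)).subgroupOf N ≤ MulAction.stabilizer ↥N x := by
        intro n hn
        rw [MulAction.mem_stabilizer_iff, hsm, mul_inv_eq_iff_eq_mul]
        rw [mem_subgroupOf, ← centralizer_eq_of_zpowers hxz, mem_centralizer_singleton_iff] at hn
        exact hn
      rw [hf, relIndex, ← MulAction.index_stabilizer ↥N x]
      exact Subgroup.index_antitone h2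
    refine le_trans ?_ h1
    rw [← Set.ncard_coe_finset]
    refine Set.ncard_le_ncard ?_ (Set.toFinite _)
    intro y hy
    rw [Finset.mem_coe, Finset.mem_filter] at hy
    obtain ⟨-, hyz⟩ := hΩ y hy.1
    have h3 : IsConj x y := ConjClasses.mk_eq_mk_iff_isConj.1 hy.2.symm
    obtain ⟨g, hg⟩ := isConj_iff.1 h3
    have hgN : g ∈ N := by
      have h5 : (zpowers z).map (MulAut.conj g).toMonoidHom = zpowers z := by
        rw [← hxz, MonoidHom.map_zpowers]
        change zpowers (g * x * g⁻¹) = _
        rw [hg, hyz, hxz]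
      rw [hN, mem_normalizer_iff]
      intro h
      have h6 : (MulAut.conj g) h ∈ (zpowers z).map (MulAut.conj g).toMonoidHom ↔ h ∈ zpowers z := by
        constructor
        · rintro ⟨k, hk, hk2⟩
          have := (MulAut.conj g).injective hk2
          exact this ▸ hk
        · intro hh; exact ⟨h, hh, rfl⟩
      rw [h5] at h6
      exact h6.symm
    exact ⟨⟨g, hgN⟩, hg⟩
  have h5 := Finset.card_le_mul_card_image Ω f hfib
  rw [hΩc] at h5
  have hch : ∀ a : Ω.image c, ∃ x ∈ Ω, c x = a := fun a => Finset.mem_image.1 a.2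
  choose r hr hrc using hch
  refine ⟨Finset.univ.image r, ?_, ?_, ?_⟩
  · intro x hx
    obtain ⟨a, -, rfl⟩ := Finset.mem_image.1 hx
    exact hΩ _ (hr a)
  · intro x hx y hy hxy
    obtain ⟨a, -, rfl⟩ := Finset.mem_image.1 hx
    obtain ⟨b, -, rfl⟩ := Finset.mem_image.1 hy
    have h1 : c (r a) = c (r b) := ConjClasses.mk_eq_mk_iff_isConj.2 hxy
    rw [hrc, hrc] at h1
    rw [Subtype.ext h1]
  · refine h5.trans (Nat.mul_le_mul_left _ ?_)
    rw [Finset.card_image_of_injective _ (fun a b h => Subtype.ext (by rw [← hrc a, ← hrc b, h])),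
      Finset.card_univ, Fintype.card_coe]

omit [Finite G] [Fact p.Prime] in
theorem order_of_zpowers {x z : G} (hz : orderOf z = p) (h : zpowers x = zpowers z) : ∃ k : ℕ, orderOf x = p ^ k :=
  ⟨1, by rw [pow_one, ← hz, ← Nat.card_zpowers, h, Nat.card_zpowers]⟩

/-- one line of elements of order `p` -/
theorem col (hM : IsPModular p M) {z : G} (hz : orderOf z = p) :
    ∃ s : ℕ, p - 1 ≤ (centralizer ({z} : Set G)).relIndex (normalizer ((zpowers z : Subgroup G) : Set G)) * s ∧
      blockRank p (principalBlock M G) + s * blockRank p (principalBlock M ↥(centralizer ({z} : Set G))) ≤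
        Nat.card (principalBlock M G) := by
  classical
  obtain ⟨S, hS, hinj, hcard⟩ := exists_gens hz
  refine ⟨S.card, hcard, ?_⟩
  have h1S : (1 : G) ∉ S := fun h => (hS 1 h).1 rfl
  have h := sum_le hM (insert 1 S) (fun x hx => by
      rcases Finset.mem_insert.1 hx with rfl | hx
      · exact ⟨0, by simp⟩
      · exact order_of_zpowers hz (hS x hx).2) (fun x hx y hy hxy => by
      rcases Finset.mem_insert.1 hx with rfl | hx'
      · exact (one_conj hxy).symm
      · rcases Finset.mem_insert.1 hy with rfl | hy'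
        · exact one_conj hxy.symm
        · exact hinj x hx' y hy' hxy)
  rw [Finset.sum_insert h1S, rank_one hM] at h
  refine le_trans (Nat.add_le_add_left ?_ _) h
  rw [Finset.sum_congr rfl (g := fun _ => blockRank p (principalBlock M ↥(centralizer ({z} : Set G)))),
    Finset.sum_const, smul_eq_mul]
  intro x hx
  rw [centralizer_eq_of_zpowers (hS x hx).2]

/-- two lines of elements of order `p` -/
theorem col_two (hM : IsPModular p M) {z w : G} (hz : orderOf z = p) (hw : orderOf w = p)
    (hzw : ∀ g : G, g * z * g⁻¹ ∉ zpowers w) :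
    ∃ s t : ℕ, p - 1 ≤ (centralizer ({z} : Set G)).relIndex (normalizer ((zpowers z : Subgroup G) : Set G)) * s ∧
      p - 1 ≤ (centralizer ({w} : Set G)).relIndex (normalizer ((zpowers w : Subgroup G) : Set G)) * t ∧
      blockRank p (principalBlock M G) + (s * blockRank p (principalBlock M ↥(centralizer ({z} : Set G))) +
        t * blockRank p (principalBlock M ↥(centralizer ({w} : Set G)))) ≤ Nat.card (principalBlock M G) := by
  classical
  obtain ⟨S, hS, hinj, hcard⟩ := exists_gens hz
  obtain ⟨T, hT, hinjT, hcardT⟩ := exists_gens hw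
  refine ⟨S.card, T.card, hcard, hcardT, ?_⟩
  have hST : ∀ x ∈ S, ∀ y ∈ T, ¬ IsConj x y := by
    intro x hx y hy hxy
    obtain ⟨g, hg⟩ := isConj_iff.1 hxy
    apply hzw g
    have h1 : (zpowers x).map (MulAut.conj g).toMonoidHom = zpowers y := by
      rw [MonoidHom.map_zpowers]
      change zpowers (g * x * g⁻¹) = _
      rw [hg]
    rw [← (hT y hy).2, ← h1]
    exact ⟨z, by rw [SetLike.mem_coe, (hS x hx).2]; exact mem_zpowers z, rfl⟩
  have hdis : Disjoint S T := by
    rw [Finset.disjoint_left]
    intro x hx hy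
    exact hST x hx x hy (IsConj.refl x)
  have h1S : (1 : G) ∉ S ∪ T := fun h => by
    rcases Finset.mem_union.1 h with h | h
    · exact (hS 1 h).1 rfl
    · exact (hT 1 h).1 rfl
  have h := sum_le hM (insert 1 (S ∪ T)) (fun x hx => by
      rcases Finset.mem_insert.1 hx with rfl | hx
      · exact ⟨0, by simp⟩
      · rcases Finset.mem_union.1 hx with hx | hx
        · exact order_of_zpowers hz (hS x hx).2
        · exact order_of_zpowers hw (hT x hx).2) (fun x hx y hy hxy => by
      rcases Finset.mem_insert.1 hx with rfl | hx'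
      · exact (one_conj hxy).symm
      · rcases Finset.mem_insert.1 hy with rfl | hy'
        · exact one_conj hxy.symm
        · rcases Finset.mem_union.1 hx' with hx' | hx' <;> rcases Finset.mem_union.1 hy' with hy' | hy'
          · exact hinj x hx' y hy' hxy
          · exact absurd hxy (hST x hx' y hy')
          · exact absurd hxy.symm (hST y hy' x hx')
          · exact hinjT x hx' y hy' hxy)
  rw [Finset.sum_insert h1S, rank_one hM, Finset.sum_union hdis] at h
  refine le_trans (Nat.add_le_add_left ?_ _) h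
  rw [Finset.sum_congr (s₁ := S) rfl (g := fun _ => blockRank p (principalBlock M ↥(centralizer ({z} : Set G)))),
    Finset.sum_const, smul_eq_mul,
    Finset.sum_congr (s₁ := T) rfl (g := fun _ => blockRank p (principalBlock M ↥(centralizer ({w} : Set G)))),
    Finset.sum_const, smul_eq_mul]
  · intro x hx
    rw [centralizer_eq_of_zpowers (hT x hx).2]
  · intro x hx
    rw [centralizer_eq_of_zpowers (hS x hx).2]

end cols

section quo

variable {G : Type u} [Group G] [Finite G] {p : ℕ} [Fact p.Prime] {M : Ideal AlgInt}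

/-- `l(B₀(G/N)) ≤ l(B₀(G))` -/
theorem rank_quot_le (hM : IsPModular p M) (N : Subgroup G) [N.Normal] :
    blockRank p (principalBlock M (G ⧸ N)) ≤ blockRank p (principalBlock M G) := by
  classical
  have hMp : M.IsPrime := hM.2.1.isPrime
  have := Characters.Core.finite_irr (G := G)
  let L : (G ⧸ N → ℂ) →ₗ[ℂ] (G → ℂ) := (pReg p).comp (LinearMap.funLeft ℂ ℂ (QuotientGroup.mk : G → G ⧸ N))
  have hreg : ∀ g : G, IsPRegular p g → IsPRegular p (g : G ⧸ N) := by
    intro g hg h
    exact hg (h.trans (orderOf_map_dvd (QuotientGroup.mk' N) g))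
  have hLf : ∀ (f : G ⧸ N → ℂ) (g : G), IsPRegular p g → L f g = f (g : G ⧸ N) := by
    intro f g hg
    change pReg p _ g = _
    rw [pReg_of hg]
    rfl
  have hL : ∀ χ : IrrCharacter (G ⧸ N), L (pRegularPart p (χ : G ⧸ N → ℂ)) =
      pRegularPart p (H633.Principal.infl N χ : G → ℂ) := by
    intro χ
    funext g
    unfold pRegularPart
    by_cases hg : IsPRegular p g
    · rw [hLf _ g hg, if_pos hg, if_pos (hreg g hg)]
      rfl
    · change pReg p _ g = _
      rw [pReg_of_not hg, if_neg hg]
  unfold blockRank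
  set V := Submodule.span ℂ ((fun χ : IrrCharacter (G ⧸ N) => pRegularPart p (χ : G ⧸ N → ℂ)) '' principalBlock M (G ⧸ N))
    with hV
  set W := Submodule.span ℂ ((fun χ : IrrCharacter G => pRegularPart p (χ : G → ℂ)) '' principalBlock M G) with hW
  have hVW : V.map L ≤ W := by
    rw [hV, Submodule.map_span, Submodule.span_le]
    rintro _ ⟨_, ⟨χ, hχ, rfl⟩, rfl⟩
    rw [hL]
    exact Submodule.subset_span ⟨_, H633.Principal.inflate_mem N hχ, rfl⟩
  have hV0 : ∀ f ∈ V, ∀ x : G ⧸ N, ¬ IsPRegular p x → f x = 0 := by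
    intro f hf x hx
    refine Submodule.span_induction (p := fun f _ => f x = 0) ?_ rfl (fun f g _ _ h1 h2 => ?_) (fun c f _ h1 => ?_) hf
    · rintro _ ⟨χ, -, rfl⟩
      change pRegularPart p _ x = 0
      unfold pRegularPart
      rw [if_neg hx]
    · rw [Pi.add_apply, h1, h2, add_zero]
    · rw [Pi.smul_apply, h1, smul_zero]
  have hinj : Function.Injective (L.domRestrict V) := by
    rw [injective_iff_map_eq_zero]
    intro f hf
    apply Subtype.ext
    funext x
    by_cases hx : IsPRegular p x
    · obtain ⟨g, rfl, hg⟩ := H589.CosetReg.exists_regular_lift p N x hx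
      have h1 := congrFun hf g
      rw [LinearMap.domRestrict_apply, hLf _ g hg] at h1
      exact h1
    · exact hV0 f f.2 x hx
  have hfinW : Module.Finite ℂ W := by
    rw [hW]
    exact Module.Finite.span_of_finite ℂ (Set.toFinite _)
  have h1 : finrank ℂ (V.map L) ≤ finrank ℂ W := Submodule.finrank_mono hVW
  refine le_trans (le_of_eq ?_) h1
  have h2 : (L.domRestrict V).range = V.map L := by
    rw [LinearMap.range_domRestrict]
  rw [← h2]
  exact (LinearMap.finrank_range_of_inj hinj).symm

/-- `l(B₀(Q)) ≤ l(B₀(G))` for every epimorphic image `Q` -/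
theorem rank_surj (hM : IsPModular p M) {Q : Type v} [Group Q] (f : G →* Q) (hf : Function.Surjective f) :
    blockRank p (principalBlock M Q) ≤ blockRank p (principalBlock M G) := by
  rw [← H590.RankSum.rank_congr (QuotientGroup.quotientKerEquivOfSurjective f hf)]
  exact rank_quot_le hM f.ker

/-- `l(B₀) = |N(D) : C(D)|` for a cyclic nontrivial Sylow subgroup -/
theorem rank_cyclic (hM : IsPModular p M) (P : Sylow p G) (hc : IsCyclic P) (hd : p ∣ Nat.card G) :
    blockRank p (principalBlock M G) =
      (centralizer ((P : Subgroup G) : Set G)).relIndex (normalizer ((P : Subgroup G) : Set G)) := by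
  classical
  have hp : p.Prime := Fact.out
  have := Fintype.ofFinite G
  have hMp := Cfsg.Agent.Blocks.Local.isPrime_of_isPModular hM
  obtain ⟨a, ha⟩ := IsPGroup.iff_card.mp P.2
  have ha1 : 1 ≤ a := by
    rcases Nat.eq_zero_or_pos a with h | h
    · exfalso
      have := P.pow_dvd_card_of_pow_dvd_card (n := 1) (by rwa [pow_one])
      rw [ha, h, pow_one, pow_zero] at this
      exact hp.one_lt.ne' (Nat.dvd_one.1 this)
    · exact h
  have hPC : (P : Subgroup G) ≤ centralizer ((P : Subgroup G) : Set G) := fun x hx =>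
    mem_centralizer_iff.2 fun y hy =>
      congrArg Subtype.val ((IsCyclic.commGroup (α := (P : Subgroup G))).mul_comm ⟨y, hy⟩ ⟨x, hx⟩)
  have hB : IsPBlock M (principalBlock M G) := Blocks.PrincipalSection.isPBlock_principalBlock
  have hBD : IsDefectGroup p M (principalBlock M G) (P : Subgroup G) := (S4652.result p M hM _).2 ⟨P, rfl⟩
  have hb : IsPBlock M (principalBlock M (centralizer ((P : Subgroup G) : Set G))) :=
    Blocks.PrincipalSection.isPBlock_principalBlock
  have hdef : InducedBlockDefined M (centralizer ((P : Subgroup G) : Set G))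
      (principalBlock M (centralizer ((P : Subgroup G) : Set G))) :=
    S0919.result p M hM (P : Subgroup G) _ P.2 hPC le_rfl (centralizer_le_normalizer _) _ hb
  have hind : IsInducedBlock M (centralizer ((P : Subgroup G) : Set G))
      (principalBlock M (centralizer ((P : Subgroup G) : Set G))) (principalBlock M G) :=
    (S0936.result p M hM _ _ hdef).2 rfl
  have hT : ∀ g : G, g ∈ normalizer ((P : Subgroup G) : Set G) ↔
      (g ∈ normalizer ((P : Subgroup G) : Set G) ∧
        ∀ θ ∈ principalBlock M (centralizer ((P : Subgroup G) : Set G)),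
          ∀ θ' : IrrCharacter (centralizer ((P : Subgroup G) : Set G)),
            (∀ h h' : centralizer ((P : Subgroup G) : Set G), (h' : G) = g * h * g⁻¹ →
              (θ' : centralizer ((P : Subgroup G) : Set G) → ℂ) h' =
                (θ : centralizer ((P : Subgroup G) : Set G) → ℂ) h) →
            θ' ∈ principalBlock M (centralizer ((P : Subgroup G) : Set G))) := by
    intro g
    refine ⟨fun hg => ⟨hg, fun θ hθ θ' h => ?_⟩, fun h => h.1⟩
    have hmem : ∀ g : G, g ∈ normalizer ((P : Subgroup G) : Set G) →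
        ∀ c ∈ centralizer ((P : Subgroup G) : Set G), g * c * g⁻¹ ∈ centralizer ((P : Subgroup G) : Set G) := by
      intro g hg c hc
      rw [mem_centralizer_iff] at hc ⊢
      intro x hx
      have h1 : g⁻¹ * x * g ∈ (P : Subgroup G) := by
        have := (mem_normalizer_iff.1 (inv_mem hg) x).1 hx
        rwa [inv_inv] at this
      have h2 := hc _ h1
      calc x * (g * c * g⁻¹) = g * ((g⁻¹ * x * g) * c) * g⁻¹ := by group
        _ = g * (c * (g⁻¹ * x * g)) * g⁻¹ := by rw [h2]
        _ = g * c * g⁻¹ * x := by group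
    let φ : centralizer ((P : Subgroup G) : Set G) ≃* centralizer ((P : Subgroup G) : Set G) :=
      { toFun := fun c => ⟨g * c * g⁻¹, hmem g hg c c.2⟩
        invFun := fun c => ⟨g⁻¹ * c * (g⁻¹)⁻¹, hmem g⁻¹ (inv_mem hg) c c.2⟩
        left_inv := fun c => Subtype.ext (by change g⁻¹ * (g * c * g⁻¹) * (g⁻¹)⁻¹ = c; group)
        right_inv := fun c => Subtype.ext (by change g * (g⁻¹ * c * (g⁻¹)⁻¹) * g⁻¹ = c; group)
        map_mul' := fun c d => Subtype.ext (by
          change g * (c * d) * g⁻¹ = (g * c * g⁻¹) * (g * d * g⁻¹); group) }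
    exact Cfsg.Agent.H736.S4790.mem_principal_of_equiv φ hθ fun c => h c (φ c) rfl
  exact S4695.result p M hM (P : Subgroup G) hc a ha1 ha (principalBlock M G) hB hBD _ hind
      (normalizer ((P : Subgroup G) : Set G)) hT _ rfl

end quo

section crit

variable {G : Type u} [Group G] [Finite G] {p : ℕ} [Fact p.Prime] {M : Ideal AlgInt}

/-- `|N(⟨z⟩) : C(z)| ≤ l(B₀(C(z)))` gives `p ≤ k(B₀(G))` -/
theorem crit_rank (hM : IsPModular p M) {z : G} (hz : orderOf z = p)
    (h : (centralizer ({z} : Set G)).relIndex (normalizer ((zpowers z : Subgroup G) : Set G)) ≤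
      blockRank p (principalBlock M ↥(centralizer ({z} : Set G)))) :
    p ≤ Nat.card (principalBlock M G) := by
  obtain ⟨s, h1, h2⟩ := col hM hz
  have h3 := Cfsg.Agent.H634.Cols.blockRank_pos (G := G) (p := p) hM
  have h4 := Nat.mul_le_mul_right s h
  rw [mul_comm s] at h2
  omega

/-- **the criterion** -/
theorem crit (hM : IsPModular p M) {z : G} (hz : orderOf z = p) {Q : Type v} [Group Q]
    (f : ↥(centralizer ({z} : Set G)) →* Q) (hf : Function.Surjective f) (P : Sylow p Q) (hc : IsCyclic P)
    (hd : p ∣ Nat.card Q)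
    (h : (centralizer ({z} : Set G)).relIndex (normalizer ((zpowers z : Subgroup G) : Set G)) ≤
      (centralizer ((P : Subgroup Q) : Set Q)).relIndex (normalizer ((P : Subgroup Q) : Set Q))) :
    p ≤ Nat.card (principalBlock M G) := by
  have : Finite Q := Finite.of_surjective f hf
  refine crit_rank hM hz ?_
  rw [← rank_cyclic hM P hc hd] at h
  exact h.trans (rank_surj hM f hf)

end crit

end Cfsg.Agent.H734.KB
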