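import Cfsg.Agent.H734.KB.Exp
import Cfsg.Agent.H200.LinFixC

/-!
# The criterion for `p ≤ k(B₀)` for linear groups (S4822, helper734)

`geo` : `G ≤ GL(V)`, `V` a finite space over `F`, `d` the order of `|F|` modulo `p`; `z ∈ G` of order `p` with
`dim C_V(z) < 2 d`; `u ∈ G` of order `p` commuting with `z` and trivial on `[V, z]`; whenever `z ~ zⁱ` in `G`, there is
`t ∈ C_G(z)` with `u ^ t = uⁱ`. Then `p ≤ k(B₀(G))`, and `p ≤ k(B₀(G/N))` for a normal `p'`-subgroup `N` of `G`.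
-/

set_option autoImplicit false

open Cfsg Cfsg.Agent.Blocks.Basic Cfsg.Agent.Blocks.Local Module Subgroup

namespace Cfsg.Agent.H734.KB

open Cfsg.Agent.H200.LinFix

universe u v w

section res

variable {F : Type u} [Field F] {V : Type v} [AddCommGroup V] [Module F V] {G : Subgroup (V ≃ₗ[F] V)}

theorem comm_of_cent {z : ↥G} (g : ↥(centralizer ({z} : Set ↥G))) (v : V) :
    ((g : ↥G) : V ≃ₗ[F] V) ((z : V ≃ₗ[F] V) v) = (z : V ≃ₗ[F] V) (((g : ↥G) : V ≃ₗ[F] V) v) := by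
  have h := mem_centralizer_singleton_iff.1 g.2
  have h1 := congrArg (fun y : ↥G => (y : V ≃ₗ[F] V) v) h
  exact h1

theorem mem_K_cent {z : ↥G} (g : ↥(centralizer ({z} : Set ↥G))) :
    ∀ v ∈ K ((z : V ≃ₗ[F] V) : Module.End F V), (((g : ↥G) : V ≃ₗ[F] V) : Module.End F V) v ∈
      K ((z : V ≃ₗ[F] V) : Module.End F V) := by
  intro v hv
  rw [mem_K] at hv ⊢
  change (z : V ≃ₗ[F] V) (((g : ↥G) : V ≃ₗ[F] V) v) = ((g : ↥G) : V ≃ₗ[F] V) v
  rw [← comm_of_cent]
  exact congrArg _ hv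

/-- the action of `C_G(z)` on `C_V(z)` -/
def resE (z : ↥G) : ↥(centralizer ({z} : Set ↥G)) →* Module.End F ↥(K ((z : V ≃ₗ[F] V) : Module.End F V)) where
  toFun g := LinearMap.restrict (((g : ↥G) : V ≃ₗ[F] V) : Module.End F V) (mem_K_cent g)
  map_one' := by
    ext v
    rfl
  map_mul' g h := by
    ext v
    rfl

theorem resE_apply (z : ↥G) (g : ↥(centralizer ({z} : Set ↥G))) (v : ↥(K ((z : V ≃ₗ[F] V) : Module.End F V))) :
    ((resE z g v : ↥(K ((z : V ≃ₗ[F] V) : Module.End F V))) : V) = ((g : ↥G) : V ≃ₗ[F] V) (v : V) := rfl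

/-- the action as a homomorphism to a group -/
def resU (z : ↥G) : ↥(centralizer ({z} : Set ↥G)) →* (Module.End F ↥(K ((z : V ≃ₗ[F] V) : Module.End F V)))ˣ :=
  (resE z).toHomUnits

theorem resU_val (z : ↥G) (g : ↥(centralizer ({z} : Set ↥G))) : (resU z g : Module.End F _) = resE z g := rfl

end res

variable {F : Type u} [Field F] {V : Type v} [AddCommGroup V] [Module F V] [Finite V]
  {G : Subgroup (V ≃ₗ[F] V)} {p : ℕ} [Fact p.Prime] {M : Ideal AlgInt}

instance : Finite (V ≃ₗ[F] V) := Finite.of_injective (fun g : V ≃ₗ[F] V => (g : V → V)) DFunLike.coe_injective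

/-- **the criterion for linear groups** -/
theorem geo_quot (hM : IsPModular p M) {d : ℕ} (hd : Ordd p (Nat.card F) d) (hpF : (p : F) ≠ 0)
    (N : Subgroup ↥G) [N.Normal] (hN : ¬ p ∣ Nat.card N) {z u : ↥G}
    (hz : orderOf z = p) (hup : u ^ p = 1) (huz : u * z = z * u)
    (hu : ∃ v, (z : V ≃ₗ[F] V) v = v ∧ (u : V ≃ₗ[F] V) v ≠ v)
    (hK : finrank F ↥(K ((z : V ≃ₗ[F] V) : Module.End F V)) < 2 * d)
    (h : ∀ i : ℕ, IsConj z (z ^ i) → ∃ t : ↥G, t * z = z * t ∧ t * u * t⁻¹ = u ^ i) :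
    p ≤ Nat.card (principalBlock M (↥G ⧸ N)) := by
  have hp : p.Prime := Fact.out
  have huC : u ∈ centralizer ({z} : Set ↥G) := mem_centralizer_singleton_iff.2 huz
  have hF : Finite F := by
    obtain ⟨v, -, hv⟩ := hu
    have hv0 : v ≠ 0 := by
      rintro rfl
      exact hv (map_zero _)
    exact Finite.of_injective (fun c : F => c • v) (smul_left_injective F hv0)
  have hne : resU z ⟨u, huC⟩ ≠ 1 := by
    intro h1
    obtain ⟨v, hv1, hv2⟩ := hu
    apply hv2
    have h2 : resE z ⟨u, huC⟩ = 1 := by rw [← resU_val, h1]; rfl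
    have h3 := congrArg (fun f : Module.End F ↥(K ((z : V ≃ₗ[F] V) : Module.End F V)) => ((f ⟨v, mem_K.2 hv1⟩ : _) : V)) h2
    exact h3
  refine crit_exp_quot hM N hN hz (resU z) (fun R hR => ?_) ⟨⟨u, huC⟩, rfl⟩ ?_ fun i hi => ?_
  · have hfE : Finite (Module.End F ↥(K ((z : V ≃ₗ[F] V) : Module.End F V))) :=
      Finite.of_injective (fun g : Module.End F ↥(K ((z : V ≃ₗ[F] V) : Module.End F V)) => (g : _ → _))
        DFunLike.coe_injective
    have hfU : Finite (Module.End F ↥(K ((z : V ≃ₗ[F] V) : Module.End F V)))ˣ := Finite.of_injective _ Units.val_injective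
    have hfR : Finite R := Finite.of_injective _ Subtype.val_injective
    refine isCyclic_of (p := p) (V := ↥(K ((z : V ≃ₗ[F] V) : Module.End F V))) hR
      ((Units.coeHom _).comp R.subtype) ?_ hd hpF hK
    exact Units.val_injective.comp Subtype.val_injective
  · refine orderOf_eq_prime ?_ hne
    rw [← map_pow]
    have h1 : (⟨u, huC⟩ : ↥(centralizer ({z} : Set ↥G))) ^ p = 1 := Subtype.ext (by simpa using hup)
    rw [h1, map_one]
  · obtain ⟨t, htz, htu⟩ := h i hi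
    refine ⟨_, ⟨⟨t, mem_centralizer_singleton_iff.2 htz⟩, rfl⟩, ?_⟩
    rw [← map_inv, ← map_mul, ← map_mul, ← map_pow]
    congr 1
    exact Subtype.ext htu

end Cfsg.Agent.H734.KB
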