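import Cfsg.Agent.H734.KB.Blk
import Cfsg.Agent.H477.HC.Cus
import Cfsg.Agent.H590.RankSum

/-!
# `p ≤ k(B₀)` for `SL(V)`, `dim V ≥ 2 d`, `d ≥ 2` the order of `q` modulo `p` (S4822, helper734)
-/

set_option autoImplicit false
set_option linter.unusedSectionVars false

open Cfsg Module Subgroup

namespace Cfsg.Agent.H734.KB

open Cfsg.Agent.H200.LinFix

section

variable {F : Type} [Field F] [Finite F] {L : Type} [Field L] [Finite L] [Algebra F L]

/-- `SL(V)` as a subgroup -/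
noncomputable def SLs (F : Type) [Field F] (V : Type) [AddCommGroup V] [Module F V] : Subgroup (V ≃ₗ[F] V) :=
  (LinearEquiv.det : (V ≃ₗ[F] V) →* Fˣ).ker

theorem mem_SLs {V : Type} [AddCommGroup V] [Module F V] {g : V ≃ₗ[F] V} : g ∈ SLs F V ↔ LinearEquiv.det g = 1 :=
  MonoidHom.mem_ker

theorem mem_SLs_of_pow {V : Type} [AddCommGroup V] [Module F V] {p : ℕ} (hp : p.Prime) (h : ¬ p ∣ Nat.card F - 1)
    {g : V ≃ₗ[F] V} (hg : g ^ p = 1) : g ∈ SLs F V := by
  rw [mem_SLs]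
  have h1 : (LinearEquiv.det g) ^ p = 1 := by rw [← map_pow, hg, map_one]
  have h2 : orderOf (LinearEquiv.det g) ∣ Nat.card F - 1 := by
    rw [← Nat.card_units]; exact orderOf_dvd_natCard _
  have h3 := orderOf_dvd_of_pow_eq_one h1
  rcases (Nat.dvd_prime hp).1 h3 with h4 | h4
  · exact orderOf_eq_one_iff.1 h4
  · exact absurd (h4 ▸ h2) h

theorem det_blk {A C : Type} [AddCommGroup A] [Module F A] [FiniteDimensional F A] [AddCommGroup C] [Module F C]
    [FiniteDimensional F C] [FiniteDimensional F L] (b : L ≃ₗ[F] L) :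
    LinearEquiv.det (blk (1 : A ≃ₗ[F] A) b (1 : C ≃ₗ[F] C)) = LinearEquiv.det b := by
  apply Units.ext
  rw [LinearEquiv.coe_det, LinearEquiv.coe_det]
  have h : ((blk (1 : A ≃ₗ[F] A) b (1 : C ≃ₗ[F] C) : (A × (L × C)) ≃ₗ[F] (A × (L × C))) :
      (A × (L × C)) →ₗ[F] (A × (L × C))) =
      LinearMap.prodMap (LinearMap.id : A →ₗ[F] A) (LinearMap.prodMap (b : L →ₗ[F] L) (LinearMap.id : C →ₗ[F] C)) := by
    ext v <;> rfl
  rw [h, LinearMap.det_prodMap, LinearMap.det_prodMap, LinearMap.det_id, LinearMap.det_id, one_mul, mul_one]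

theorem det_mulE [FiniteDimensional F L] (a : Lˣ) :
    ((LinearEquiv.det (mulE F L a) : Fˣ) : F) = Algebra.norm F (a : L) := by
  rw [LinearEquiv.coe_det, Algebra.norm_apply]
  congr 1

/-- the exponents of `blk (x·) 1 1` -/
theorem conj_of_blk [FiniteDimensional F L] {s : ℕ} {C : Type} [AddCommGroup C] [Module F C] (j₀ : Fin s) {x : Lˣ}
    (hx : x ≠ 1) {i : ℕ} {g : ((Fin s → L) × (L × C)) ≃ₗ[F] ((Fin s → L) × (L × C))}
    (h : g * blk (mulE F (Fin s → L) x) 1 1 = blk (mulE F (Fin s → L) x) 1 1 ^ i * g) :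
    ∃ σ : L ≃ₐ[F] L, (x : L) ^ i = σ x := by
  classical
  have hpow : blk (mulE F (Fin s → L) x) (1 : L ≃ₗ[F] L) (1 : C ≃ₗ[F] C) ^ i =
      blk (mulE F (Fin s → L) (x ^ i)) 1 1 := by
    have h1 := map_pow (blkH (F := F) (L := L) (A := Fin s → L) (C := C)) (mulE F (Fin s → L) x, 1, 1) i
    rw [Prod.pow_mk, Prod.pow_mk, one_pow, one_pow, ← map_pow] at h1
    exact h1.symm
  rw [hpow] at h
  -- the embedding of `L` in the first coordinate
  let ι : L →ₗ[F] ((Fin s → L) × (L × C)) := (LinearMap.inl F (Fin s → L) (L × C)).comp (LinearMap.single F (fun _ => L) j₀)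
  have hι : ∀ y, ι (x * y) = blk (mulE F (Fin s → L) x) (1 : L ≃ₗ[F] L) (1 : C ≃ₗ[F] C) (ι y) := by
    intro y
    refine Prod.ext ?_ rfl
    change Pi.single j₀ ((x : L) * y) = (x : L) • (Pi.single j₀ y : Fin s → L)
    rw [← smul_eq_mul, Pi.single_smul]
  have key : ∀ y, g (ι (x * y)) = blk (mulE F (Fin s → L) (x ^ i)) (1 : L ≃ₗ[F] L) (1 : C ≃ₗ[F] C) (g (ι y)) := by
    intro y
    rw [hι]
    exact congrArg (fun f : ((Fin s → L) × (L × C)) ≃ₗ[F] ((Fin s → L) × (L × C)) => f (ι y)) h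
  by_cases h0 : ∃ j : Fin s, ∃ y : L, (g (ι y)).1 j ≠ 0
  · obtain ⟨j, y₀, hy₀⟩ := h0
    let ψ : L →ₗ[F] L := (LinearMap.proj j).comp ((LinearMap.fst F (Fin s → L) (L × C)).comp
      ((g : ((Fin s → L) × (L × C)) →ₗ[F] ((Fin s → L) × (L × C))).comp ι))
    have hψ : ∀ y, ψ y = (g (ι y)).1 j := fun _ => rfl
    have hψ0 : ψ ≠ 0 := fun h1 => hy₀ (by rw [← hψ, h1]; rfl)
    have h2 := conjRoot_of_semi (x := (x : L)) (x' := (x : L) ^ i) hψ0 fun y => by
      rw [hψ, hψ, key]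
      change ((x ^ i : Lˣ) : L) • (g (ι y)).1 j = _
      rw [Units.val_pow_eq_pow_val, smul_eq_mul]
    obtain ⟨σ, hσ⟩ := isConjRoot_iff_exists_algEquiv.1 h2.symm
    exact ⟨σ, hσ.symm⟩
  · exfalso
    push Not at h0
    apply hx
    have h1 : g (ι (x * 1)) = g (ι 1) := by
      rw [key]
      have h2 : (g (ι 1)).1 = 0 := funext fun j => h0 j 1
      refine Prod.ext ?_ rfl
      change ((x ^ i : Lˣ) : L) • (g (ι 1)).1 = (g (ι 1)).1
      rw [h2, smul_zero]
    have h2 := congrArg (fun v : (Fin s → L) × (L × C) => v.1 j₀) (g.injective h1)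
    have h3 : (x : L) * 1 = 1 := by
      have e : ∀ y : L, (ι y).1 j₀ = y := fun y => by
        change (Pi.single j₀ y : Fin s → L) j₀ = y
        rw [Pi.single_eq_same]
      rwa [e, e] at h2
    rw [mul_one] at h3
    exact Units.ext h3

variable {p : ℕ} [Fact p.Prime] {M : Ideal AlgInt}

/-- **`SL`, `d ≥ 2`** -/
theorem sl_block (hM : IsPModular p M) {d s r : ℕ} (hs : 1 ≤ s) (hr : r < d) (hL : finrank F L = d)
    (hd : Ordd p (Nat.card F) d) (hpF : (p : F) ≠ 0) (hq : ¬ p ∣ Nat.card F - 1) (hx : p ∣ Nat.card F ^ d - 1)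
    (N : Subgroup ↥(SLs F ((Fin s → L) × (L × (Fin r → F))))) [N.Normal] (hN : ¬ p ∣ Nat.card N) :
    p ≤ Nat.card (principalBlock M (↥(SLs F ((Fin s → L) × (L × (Fin r → F)))) ⧸ N)) := by
  classical
  have hp : p.Prime := Fact.out
  have hfd : FiniteDimensional F L := FiniteDimensional.of_finrank_pos (by omega)
  have hcard : Nat.card Lˣ = Nat.card F ^ d - 1 := by
    rw [Nat.card_units, Module.natCard_eq_pow_finrank (K := F), hL]
  obtain ⟨x, hxo⟩ := exists_prime_orderOf_dvd_card' (G := Lˣ) p (by rw [hcard]; exact hx)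
  have hx1 : x ≠ 1 := by
    rintro rfl
    rw [orderOf_one] at hxo
    exact hp.one_lt.ne hxo
  have hxp : x ^ p = 1 := by rw [← hxo, pow_orderOf_eq_one]
  set V := (Fin s → L) × (L × (Fin r → F)) with hV
  let j₀ : Fin s := ⟨0, hs⟩
  let ze : V ≃ₗ[F] V := blk (mulE F (Fin s → L) x) 1 1
  let ue : V ≃ₗ[F] V := blk 1 (mulE F L x) 1
  have hzp : ze ^ p = 1 := by
    have h1 := map_pow (blkH (F := F) (L := L) (A := Fin s → L) (C := Fin r → F)) (mulE F (Fin s → L) x, 1, 1) p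
    rw [Prod.pow_mk, Prod.pow_mk, one_pow, one_pow, ← map_pow, hxp, map_one] at h1
    exact h1.symm
  have hup : ∀ i : ℕ, ue ^ i = blk 1 (mulE F L (x ^ i)) 1 := by
    intro i
    have h1 := map_pow (blkH (F := F) (L := L) (A := Fin s → L) (C := Fin r → F)) (1, mulE F L x, 1) i
    rw [Prod.pow_mk, Prod.pow_mk, one_pow, one_pow, ← map_pow] at h1
    exact h1.symm
  have hup1 : ue ^ p = 1 := by rw [hup, hxp, map_one]; rfl
  let z : ↥(SLs F V) := ⟨ze, mem_SLs_of_pow hp hq hzp⟩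
  let u : ↥(SLs F V) := ⟨ue, mem_SLs_of_pow hp hq hup1⟩
  refine geo_quot (V := V) hM hd hpF N hN (z := z) (u := u) ?_ (Subtype.ext hup1) (Subtype.ext rfl) ?_ ?_ ?_
  · refine orderOf_eq_prime (Subtype.ext hzp) fun h => hx1 ?_
    have h1 := congrArg (fun f : ↥(SLs F V) => ((f : V ≃ₗ[F] V) (Pi.single j₀ 1, 0)).1 j₀) h
    have h2 : (x : L) * (Pi.single j₀ (1 : L) : Fin s → L) j₀ = (Pi.single j₀ (1 : L) : Fin s → L) j₀ := h1
    rw [Pi.single_eq_same, mul_one] at h2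
    exact Units.ext h2
  · refine ⟨(0, (1, 0)), ?_, fun h => hx1 ?_⟩
    · refine Prod.ext ?_ rfl
      change (x : L) • (0 : Fin s → L) = 0
      rw [smul_zero]
    · have h2 : (x : L) * 1 = 1 := congrArg (fun v : V => v.2.1) h
      rw [mul_one] at h2
      exact Units.ext h2
  · have h1 : finrank F (L × (Fin r → F)) = d + r := by
      rw [Module.finrank_prod, hL, Module.finrank_fin_fun]
    let f : ↥(K (((z : ↥(SLs F V)) : V ≃ₗ[F] V) : Module.End F V)) →ₗ[F] (L × (Fin r → F)) :=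
      (LinearMap.snd F (Fin s → L) (L × (Fin r → F))).comp (Submodule.subtype _)
    have hf : Function.Injective f := by
      rw [injective_iff_map_eq_zero]
      intro v hv
      apply Subtype.ext
      refine Prod.ext ?_ hv
      have h2 : ze v.1 = v.1 := mem_K.1 v.2
      have h3 : (x : L) • (v.1 : V).1 = (v.1 : V).1 := congrArg Prod.fst h2
      have h4 : ((x : L) - 1) • (v.1 : V).1 = 0 := by rw [sub_smul, h3, one_smul, sub_self]
      exact (smul_eq_zero.1 h4).resolve_left fun h5 => hx1 (Units.ext (sub_eq_zero.1 h5))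
    have h2 := LinearMap.finrank_le_finrank_of_injective hf
    rw [h1] at h2
    omega
  · intro i hi
    obtain ⟨g, hg⟩ := isConj_iff.1 hi
    have h1 : (g : V ≃ₗ[F] V) * ze = ze ^ i * (g : V ≃ₗ[F] V) := by
      have h2 := congrArg (fun f : ↥(SLs F V) => (f : V ≃ₗ[F] V)) (mul_inv_eq_iff_eq_mul.1 hg)
      exact h2
    obtain ⟨σ, hσ⟩ := conj_of_blk j₀ hx1 h1
    obtain ⟨l, hl⟩ := FiniteField.unitsMap_norm_surjective F L (LinearEquiv.det σ.toLinearEquiv)⁻¹
    have hdl : LinearEquiv.det (mulE F L l) = (LinearEquiv.det σ.toLinearEquiv)⁻¹ := by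
      rw [← hl]
      apply Units.ext
      rw [det_mulE]
      rfl
    let t : ↥(SLs F V) := ⟨blk 1 (mulE F L l * σ.toLinearEquiv) 1, by
      rw [mem_SLs, det_blk, map_mul, hdl, inv_mul_cancel]⟩
    refine ⟨t, Subtype.ext rfl, ?_⟩
    rw [mul_inv_eq_iff_eq_mul]
    apply Subtype.ext
    change blk 1 (mulE F L l * σ.toLinearEquiv) 1 * ue = ue ^ i * blk 1 (mulE F L l * σ.toLinearEquiv) 1
    rw [hup]
    refine LinearEquiv.ext fun v => ?_
    refine Prod.ext rfl (Prod.ext ?_ rfl)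
    change (l : L) * σ ((x : L) * v.2.1) = ((x ^ i : Lˣ) : L) * ((l : L) * σ v.2.1)
    rw [map_mul, ← hσ, Units.val_pow_eq_pow_val]
    ring

end

end Cfsg.Agent.H734.KB
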